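import Mathlib
import Cfsg.Prelude.Def_Classical

/-!
# Siegel transvection groups of the hyperbolic quadratic form

For a totally singular pair `p, r` the isometries `v ↦ v + c (B(v,r) p - B(v,p) r)`.
-/

set_option autoImplicit false
set_option linter.unusedSectionVars false

namespace Cfsg.Agent.Classical.Siegel

open Matrix

variable {F : Type*} [Field F] {k : ℕ}

local notation "V" => Fin k ⊕ Fin k → F
set_option quotPrecheck false in
local notation "Gi" => ↥(Cfsg.isometryGroup F (Cfsg.quadFormPlus k F))

variable (k F) in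
/-- The quadratic form. -/
abbrev Q : (Fin k ⊕ Fin k → F) → F := Cfsg.quadFormPlus k F

/-- Its polar form. -/
def bq (u v : V) : F := ∑ i : Fin k, (u (.inl i) * v (.inr i) + u (.inr i) * v (.inl i))

theorem Q_add (u v : V) : Q F k (u + v) = Q F k u + Q F k v + bq u v := by
  simp only [Q, Cfsg.quadFormPlus, bq, Pi.add_apply, ← Finset.sum_add_distrib]
  exact Finset.sum_congr rfl fun i _ => by ring

theorem Q_smul (c : F) (u : V) : Q F k (c • u) = c * c * Q F k u := by
  simp only [Q, Cfsg.quadFormPlus, Pi.smul_apply, smul_eq_mul, Finset.mul_sum]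
  exact Finset.sum_congr rfl fun i _ => by ring

theorem bq_comm (u v : V) : bq u v = bq v u := Finset.sum_congr rfl fun i _ => by ring

theorem bq_add_left (u v w : V) : bq (u + v) w = bq u w + bq v w := by
  simp only [bq, Pi.add_apply, ← Finset.sum_add_distrib]
  exact Finset.sum_congr rfl fun i _ => by ring

theorem bq_smul_left (c : F) (u v : V) : bq (c • u) v = c * bq u v := by
  simp only [bq, Pi.smul_apply, smul_eq_mul, Finset.mul_sum]
  exact Finset.sum_congr rfl fun i _ => by ring

theorem bq_add_right (u v w : V) : bq u (v + w) = bq u v + bq u w := by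
  rw [bq_comm, bq_add_left, bq_comm v, bq_comm w]

theorem bq_smul_right (c : F) (u v : V) : bq u (c • v) = c * bq u v := by
  rw [bq_comm, bq_smul_left, bq_comm]

theorem bq_sub_left (u v w : V) : bq (u - v) w = bq u w - bq v w := by
  rw [sub_eq_add_neg, ← neg_one_smul F v, bq_add_left, bq_smul_left]; ring

theorem bq_sub_right (u v w : V) : bq u (v - w) = bq u v - bq u w := by
  rw [bq_comm, bq_sub_left, bq_comm v, bq_comm w]

theorem bq_zero_left (v : V) : bq (0 : V) v = 0 := by simp [bq]

theorem bq_zero_right (v : V) : bq v (0 : V) = 0 := by simp [bq]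

theorem bq_self (u : V) : bq u u = 2 * Q F k u := by
  simp only [Q, Cfsg.quadFormPlus, bq, Finset.mul_sum]
  exact Finset.sum_congr rfl fun i _ => by ring

/-- The polar form as a linear functional. -/
def bqL (r : V) : V →ₗ[F] F where
  toFun v := bq v r
  map_add' u v := bq_add_left u v r
  map_smul' c u := bq_smul_left c u r

@[simp] theorem bqL_apply (r v : V) : bqL r v = bq v r := rfl

theorem eq_of_bq {u w : V} (h : ∀ v, bq u v = bq w v) : u = w := by
  classical
  funext i
  rcases i with i | i
  · have := h (Pi.single (Sum.inr i) 1)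
    simpa [bq, Pi.single_apply] using this
  · have := h (Pi.single (Sum.inl i) 1)
    simpa [bq, Pi.single_apply] using this

/-- Prescribed pairings against independent vectors. -/
theorem exists_dual {ι : Type*} {v : ι → V} (hli : LinearIndependent F v) (c : ι → F) :
    ∃ x : V, ∀ i, bq (v i) x = c i := by
  classical
  obtain ⟨φ, hφ⟩ := LinearMap.exists_extend ((Finsupp.linearCombination F c).comp hli.repr)
  have hv : ∀ i, φ (v i) = c i := fun i => by
    have h := congrArg (fun f => f ⟨v i, Submodule.subset_span ⟨i, rfl⟩⟩) hφ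
    simp only [LinearMap.coe_comp, Function.comp_apply, Submodule.coe_subtype] at h
    rw [h, hli.repr_eq_single i ⟨v i, Submodule.subset_span ⟨i, rfl⟩⟩ rfl, Finsupp.linearCombination_single, one_smul]
  refine ⟨fun i => φ (Pi.single i.swap 1), fun i => ?_⟩
  rw [← hv i]
  conv_rhs => rw [← Finset.univ_sum_single (v i)]
  rw [map_sum, Fintype.sum_sum_type, bq, Finset.sum_add_distrib]
  have e : ∀ j : Fin k ⊕ Fin k, φ (Pi.single j (v i j)) = v i j * φ (Pi.single j 1) := fun j => by
    rw [← smul_eq_mul, ← map_smul, ← Pi.single_smul, smul_eq_mul, mul_one]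
  simp only [e, Sum.swap_inl, Sum.swap_inr]

/-- The action. -/
def act (g : Gi) (v : V) : V := ((g : GL (Fin k ⊕ Fin k) F) : Matrix (Fin k ⊕ Fin k) (Fin k ⊕ Fin k) F) *ᵥ v

theorem Q_act (g : Gi) (v : V) : Q F k (act g v) = Q F k v := g.2 v v

theorem act_mul (g h : Gi) (v : V) : act (g * h) v = act g (act h v) := by
  simp [act, Matrix.mulVec_mulVec]

theorem act_one (v : V) : act (1 : Gi) v = v := by simp [act]

theorem act_inv_cancel (g : Gi) (v : V) : act g (act g⁻¹ v) = v := by
  rw [← act_mul, mul_inv_cancel, act_one]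

theorem act_cancel_inv (g : Gi) (v : V) : act g⁻¹ (act g v) = v := by
  rw [← act_mul, inv_mul_cancel, act_one]

theorem act_add (g : Gi) (u v : V) : act g (u + v) = act g u + act g v := Matrix.mulVec_add _ _ _

theorem act_smul (g : Gi) (c : F) (v : V) : act g (c • v) = c • act g v := Matrix.mulVec_smul _ _ _

theorem act_sub (g : Gi) (u v : V) : act g (u - v) = act g u - act g v := Matrix.mulVec_sub _ _ _

theorem bq_act (g : Gi) (u v : V) : bq (act g u) (act g v) = bq u v := by
  have h := Q_act g (u + v)
  rw [act_add, Q_add, Q_add, Q_act, Q_act] at h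
  linear_combination h

theorem eq_of_act {g h : Gi} (e : ∀ v, act g v = act h v) : g = h := by
  refine Subtype.ext (Units.ext (Matrix.toLin'.injective ?_))
  exact LinearMap.ext fun v => e v

/-- An isometry from a linear map with an inverse. -/
noncomputable def ofLin (f g : V →ₗ[F] V) (h1 : f ∘ₗ g = LinearMap.id) (h2 : g ∘ₗ f = LinearMap.id)
    (hQ : ∀ v, Q F k (f v) = Q F k v) : Gi :=
  ⟨⟨LinearMap.toMatrix' f, LinearMap.toMatrix' g, by rw [← LinearMap.toMatrix'_comp, h1, LinearMap.toMatrix'_id],
    by rw [← LinearMap.toMatrix'_comp, h2, LinearMap.toMatrix'_id]⟩, fun u _ => by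
      show Q F k (LinearMap.toMatrix' f *ᵥ u) = Q F k u
      rw [LinearMap.toMatrix'_mulVec, hQ]⟩

theorem act_ofLin (f g : V →ₗ[F] V) (h1 : f ∘ₗ g = LinearMap.id) (h2 : g ∘ₗ f = LinearMap.id)
    (hQ : ∀ v, Q F k (f v) = Q F k v) (v : V) : act (ofLin f g h1 h2 hQ) v = f v :=
  LinearMap.toMatrix'_mulVec f v

/-- A totally singular pair. -/
structure Sing (p r : V) : Prop where
  left : Q F k p = 0
  right : Q F k r = 0
  perp : bq p r = 0

theorem Sing.symm {p r : V} (h : Sing p r) : Sing r p := ⟨h.right, h.left, (bq_comm r p).trans h.perp⟩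

theorem Sing.self_left {p r : V} (h : Sing p r) : bq p p = 0 := by rw [bq_self, h.left, mul_zero]

theorem Sing.self_right {p r : V} (h : Sing p r) : bq r r = 0 := by rw [bq_self, h.right, mul_zero]

/-- The Siegel map. -/
def sLin (p r : V) (c : F) : V →ₗ[F] V :=
  LinearMap.id + c • ((bqL r).smulRight p - (bqL p).smulRight r)

theorem sLin_apply (p r : V) (c : F) (v : V) : sLin p r c v = v + c • (bq v r • p - bq v p • r) := rfl

theorem sLin_comp {p r : V} (h : Sing p r) (c d : F) : sLin p r c ∘ₗ sLin p r d = sLin p r (c + d) := by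
  refine LinearMap.ext fun v => ?_
  simp only [LinearMap.comp_apply, sLin_apply, bq_add_left, bq_sub_left, bq_smul_left, h.self_left, h.self_right,
    h.perp, h.symm.perp]
  module

theorem sLin_zero (p r : V) : sLin p r (0 : F) = LinearMap.id := by
  refine LinearMap.ext fun v => ?_
  simp [sLin_apply]

theorem Q_sLin {p r : V} (h : Sing p r) (c : F) (v : V) : Q F k (sLin p r c v) = Q F k v := by
  rw [sLin_apply, Q_add, Q_smul, bq_smul_right, bq_sub_right, bq_smul_right, bq_smul_right,
    show bq v r • p - bq v p • r = bq v r • p + (-bq v p) • r by module, Q_add, Q_smul, Q_smul, h.left, h.right,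
    bq_smul_left, bq_smul_right, h.perp]
  ring

/-- The Siegel transvections. -/
noncomputable def sHom (p r : V) (h : Sing p r) : Multiplicative F →* Gi :=
  MonoidHom.mk' (fun c => ofLin (sLin p r c.toAdd) (sLin p r (-c.toAdd))
    (by rw [sLin_comp h, add_neg_cancel, sLin_zero]) (by rw [sLin_comp h, neg_add_cancel, sLin_zero]) (Q_sLin h _))
    fun c d => eq_of_act fun v => by
      rw [act_mul, act_ofLin, act_ofLin, act_ofLin, ← LinearMap.comp_apply, sLin_comp h]
      rfl

theorem act_sHom (p r : V) (h : Sing p r) (c : Multiplicative F) (v : V) :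
    act (sHom p r h c) v = v + c.toAdd • (bq v r • p - bq v p • r) := by
  simp only [sHom, MonoidHom.mk'_apply, act_ofLin, sLin_apply]

/-- The Siegel transvection group. -/
noncomputable def T (p r : V) (h : Sing p r) : Subgroup Gi := (sHom p r h).range

theorem mem_T {p r : V} {h : Sing p r} {g : Gi} :
    g ∈ T p r h ↔ ∃ c : F, ∀ v, act g v = v + c • (bq v r • p - bq v p • r) := by
  constructor
  · rintro ⟨c, rfl⟩
    exact ⟨c.toAdd, act_sHom p r h c⟩
  · rintro ⟨c, hc⟩
    exact ⟨Multiplicative.ofAdd c, eq_of_act fun v => by rw [hc, act_sHom]; rfl⟩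

theorem T_comm (p r : V) (h : Sing p r) : IsMulCommutative (T p r h) := by
  refine ⟨⟨fun a b => Subtype.ext ?_⟩⟩
  obtain ⟨c, hc⟩ := a.2
  obtain ⟨d, hd⟩ := b.2
  show (a : Gi) * b = b * a
  rw [← hc, ← hd, ← map_mul, ← map_mul, mul_comm]

theorem T_ne_bot {p r : V} {h : Sing p r} (hli : LinearIndependent F ![p, r]) : T p r h ≠ ⊥ := by
  intro hb
  have h1 : sHom p r h (Multiplicative.ofAdd 1) = 1 := Subgroup.mem_bot.mp (hb ▸ ⟨_, rfl⟩)
  obtain ⟨s, hs⟩ := exists_dual hli ![0, 1]
  have e := congrArg (fun g => act g s) h1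
  simp only [act_sHom, act_one, toAdd_ofAdd, one_smul] at e
  have hp : bq s p = 0 := by rw [bq_comm]; simpa using hs 0
  have hr : bq s r = 1 := by rw [bq_comm]; simpa using hs 1
  rw [hp, hr, one_smul, zero_smul, sub_zero, add_eq_left] at e
  exact hli.ne_zero 0 (by simpa using e)

theorem T_change {p r p' r' : V} (h : Sing p r) (h' : Sing p' r') {α β γ δ : F} (hp : p' = α • p + β • r)
    (hr : r' = γ • p + δ • r) (hD : α * δ - β * γ ≠ 0) : T p' r' h' = T p r h := by
  have e : ∀ v : V, bq v r' • p' - bq v p' • r' = (α * δ - β * γ) • (bq v r • p - bq v p • r) := fun v => by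
    subst hp hr
    simp only [bq_add_right, bq_smul_right]
    module
  ext g
  rw [mem_T, mem_T]
  constructor
  · rintro ⟨c, hc⟩
    exact ⟨c * (α * δ - β * γ), fun v => by rw [hc, e, smul_smul]⟩
  · rintro ⟨c, hc⟩
    exact ⟨c / (α * δ - β * γ), fun v => by rw [hc, e, smul_smul, div_mul_cancel₀ _ hD]⟩

theorem T_swap {p r : V} (h : Sing p r) : T r p h.symm = T p r h :=
  T_change h h.symm (α := 0) (β := 1) (γ := 1) (δ := 0) (by simp) (by simp) (by simp)

/-- The group fixing the perpendicular of a singular line pointwise. -/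
theorem fixing_eq {p r : V} (h : Sing p r) (hli : LinearIndependent F ![p, r]) :
    {g : Gi | ∀ v, bq v p = 0 → bq v r = 0 → act g v = v} = (T p r h : Set Gi) := by
  ext g
  rw [Set.mem_setOf_eq, SetLike.mem_coe, mem_T]
  constructor
  swap
  · rintro ⟨c, hc⟩ v hp hr
    rw [hc, hp, hr]; simp
  intro hfix
  obtain ⟨s, hs⟩ := exists_dual hli ![1, 0]
  obtain ⟨t, ht⟩ := exists_dual hli ![0, 1]
  have ps : bq p s = 1 := by simpa using hs 0
  have rs : bq r s = 0 := by simpa using hs 1
  have pt : bq p t = 0 := by simpa using ht 0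
  have rt : bq r t = 1 := by simpa using ht 1
  have perp : ∀ v, bq (v - bq v p • s - bq v r • t) p = 0 ∧ bq (v - bq v p • s - bq v r • t) r = 0 := fun v => by
    simp only [bq_sub_left, bq_smul_left, bq_comm s p, bq_comm t p, bq_comm s r, bq_comm t r, ps, rs, pt, rt]
    constructor <;> ring
  set ds := act g s - s with hds
  set dt := act g t - t with hdt
  have hd : ∀ v, act g v = v + (bq v p • ds + bq v r • dt) := fun v => by
    have e := hfix _ (perp v).1 (perp v).2
    rw [act_sub, act_sub, act_smul, act_smul] at e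
    rw [hds, hdt, ← sub_eq_zero]
    rw [← sub_eq_zero] at e
    rw [← e]
    module
  have hline : ∀ u : V, (∀ w, bq w p = 0 → bq w r = 0 → bq u w = 0) → u = bq u s • p + bq u t • r := fun u hu => by
    refine eq_of_bq fun w => ?_
    have e := hu _ (perp w).1 (perp w).2
    rw [bq_sub_right, bq_sub_right, bq_smul_right, bq_smul_right] at e
    rw [bq_add_left, bq_smul_left, bq_smul_left, bq_comm p w, bq_comm r w]
    linear_combination e
  have horth : ∀ x w, bq w p = 0 → bq w r = 0 → bq (act g x - x) w = 0 := fun x w hp hr => by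
    have := bq_act g x w
    rw [hfix w hp hr] at this
    rw [bq_sub_left, this, sub_self]
  have es := hline ds (horth s)
  have et := hline dt (horth t)
  have hzero : ∀ x y : V, ∀ a b c d : F, x = a • p + b • r → y = c • p + d • r → bq x y = 0 ∧ Q F k x = 0 := by
    intro x y a b c d hx hy
    subst hx hy
    simp only [bq_add_left, bq_add_right, bq_smul_left, bq_smul_right, Q_add, Q_smul, h.self_left, h.self_right,
      h.perp, h.symm.perp, h.left, h.right]
    constructor <;> ring
  have gs : act g s = s + ds := by rw [hds]; abel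
  have gt : act g t = t + dt := by rw [hdt]; abel
  have a0 : bq ds s = 0 := by
    have e := Q_act g s
    rw [gs, Q_add, (hzero _ _ _ _ _ _ es es).2, bq_comm] at e
    linear_combination e
  have d0 : bq dt t = 0 := by
    have e := Q_act g t
    rw [gt, Q_add, (hzero _ _ _ _ _ _ et et).2, bq_comm] at e
    linear_combination e
  have cb : bq ds t = -bq dt s := by
    have e := bq_act g s t
    rw [gs, gt, bq_add_left, bq_add_right, bq_add_right, (hzero _ _ _ _ _ _ es et).1, bq_comm s dt] at e
    linear_combination e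
  rw [a0, cb] at es
  rw [d0] at et
  refine ⟨bq dt s, fun v => ?_⟩
  rw [hd]
  generalize bq dt s = c at es et ⊢
  rw [es, et]
  module

theorem conj_T (g : Gi) {p r : V} (h : Sing p r) (h' : Sing (act g p) (act g r)) :
    (T p r h).map (MulAut.conj g).toMonoidHom = T (act g p) (act g r) h' := by
  have e : ∀ c : F, MulAut.conj g (sHom p r h (Multiplicative.ofAdd c)) =
      sHom (act g p) (act g r) h' (Multiplicative.ofAdd c) := fun c => eq_of_act fun v => by
    rw [MulAut.conj_apply, act_mul, act_mul, act_sHom, act_sHom, act_add, act_inv_cancel, act_smul, act_sub,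
      act_smul, act_smul]
    have hb : ∀ x, bq v (act g x) = bq (act g⁻¹ v) x := fun x => by
      conv_rhs => rw [← bq_act g, act_inv_cancel]
    rw [hb, hb]
  ext x
  constructor
  · rintro ⟨_, ⟨c, rfl⟩, rfl⟩
    exact ⟨c, (e c.toAdd).symm⟩
  · rintro ⟨c, rfl⟩
    exact ⟨_, ⟨c, rfl⟩, e c.toAdd⟩

theorem Sing.map_act {p r : V} (h : Sing p r) (g : Gi) : Sing (Siegel.act g p) (Siegel.act g r) :=
  ⟨(Q_act g p).trans h.left, (Q_act g r).trans h.right, (bq_act g p r).trans h.perp⟩

end Cfsg.Agent.Classical.Siegel
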