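import Cfsg.Agent.Lib.Classical.SiegelRoot.Plane
import Cfsg.Agent.Lib.Classical.RootClass

/-!
# The Siegel transvection groups as root subgroups
-/

set_option autoImplicit false
set_option linter.unusedSectionVars false

namespace Cfsg.Agent.Classical.Siegel

open Matrix Cfsg.Agent.Classical.RankOne
open scoped commutatorElement

variable {F : Type*} [Field F] {k : ℕ}

local notation "V" => Fin k ⊕ Fin k → F
set_option quotPrecheck false in
local notation "Gi" => ↥(Cfsg.isometryGroup F (Cfsg.quadFormPlus k F))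

/-- The hypothesis of the statement, in our terms. -/
theorem set_eq : {A : Subgroup Gi | ∃ p r : V, LinearIndependent F ![p, r] ∧
      Q F k p = 0 ∧ Q F k r = 0 ∧ Q F k (p + r) = 0 ∧
      A = Subgroup.closure {σ : Gi | ∀ v : V, Q F k (v + p) - Q F k v - Q F k p = 0 →
        Q F k (v + r) - Q F k v - Q F k r = 0 → act σ v = v}} = rootSet F k := by
  have e : ∀ {p r : V} (h : Sing p r), LinearIndependent F ![p, r] →
      Subgroup.closure {σ : Gi | ∀ v : V, Q F k (v + p) - Q F k v - Q F k p = 0 →
        Q F k (v + r) - Q F k v - Q F k r = 0 → act σ v = v} = T p r h := fun {p r} h hli => by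
    have hb : ∀ v w : V, Q F k (v + w) - Q F k v - Q F k w = bq v w := fun v w => by rw [Q_add]; ring
    simp only [hb]
    rw [fixing_eq h hli, Subgroup.closure_eq]
  ext A
  constructor
  · rintro ⟨p, r, hli, hp, hr, hpr, rfl⟩
    have h : Sing p r := ⟨hp, hr, by rw [Q_add, hp, hr] at hpr; linear_combination hpr⟩
    exact ⟨p, r, h, hli, e h hli⟩
  · rintro ⟨p, r, h, hli, rfl⟩
    exact ⟨p, r, hli, h.left, h.right, by rw [Q_add, h.left, h.right, h.perp]; ring, (e h hli).symm⟩

/-- The lower basis vectors and the upper ones. -/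
theorem ext_line (hk : 3 ≤ k) {p r : V} (h : Sing p r) :
    ∃ z : V, Q F k z = 0 ∧ bq z p = 0 ∧ bq z r = 0 ∧ z ∉ Submodule.span F ({p, r} : Set V) := by
  classical
  by_contra! hcon
  let W : Submodule F V := Submodule.span F {p, r}
  have hW : Module.finrank F W ≤ 2 := by
    refine le_trans (finrank_span_le_card _) ?_
    rw [Set.toFinset_insert, Set.toFinset_singleton]
    exact Finset.card_le_two
  -- the two maximal totally singular coordinate subspaces
  let e : Bool → (Fin k → F) →ₗ[F] V := fun b =>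
    { toFun := fun x i => Sum.elim (fun j => if b then x j else 0) (fun j => if b then 0 else x j) i
      map_add' := fun x y => by funext i; rcases i with i | i <;> cases b <;> simp
      map_smul' := fun c x => by funext i; rcases i with i | i <;> cases b <;> simp }
  have hQ : ∀ b x, Q F k (e b x) = 0 := fun b x => by
    cases b <;> simp [e, Q, Cfsg.quadFormPlus]
  have hinj : ∀ b, Function.Injective (e b) := fun b x y hxy => funext fun i => by
    cases b
    · simpa [e] using congrFun hxy (Sum.inr i)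
    · simpa [e] using congrFun hxy (Sum.inl i)
  have hdisj : ∀ x y, e true x = e false y → x = 0 := fun x y hxy => funext fun i => by
    simpa [e] using congrFun hxy (Sum.inl i)
  -- kernels of pairs of functionals are big
  have hker : ∀ (b : Bool) (u w : V),
      k - 2 ≤ Module.finrank F (LinearMap.ker (((bqL u).comp (e b)).prod ((bqL w).comp (e b)))) := fun b u w => by
    have h1 := LinearMap.finrank_range_add_finrank_ker (((bqL u).comp (e b)).prod ((bqL w).comp (e b)))
    have h2 := Submodule.finrank_le (LinearMap.range (((bqL u).comp (e b)).prod ((bqL w).comp (e b))))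
    rw [Module.finrank_fintype_fun_eq_card, Fintype.card_fin] at h1
    rw [Module.finrank_prod, Module.finrank_self] at h2
    omega
  have hkerW : ∀ (b : Bool) (x : Fin k → F), bq (e b x) p = 0 → bq (e b x) r = 0 → e b x ∈ W :=
    fun b x hp hr => hcon _ (hQ b x) hp hr
  -- a nonzero vector of each in the line
  have hex : ∀ b : Bool, ∃ x : Fin k → F, x ≠ 0 ∧ e b x ∈ W := fun b => by
    have hpos : 0 < Module.finrank F (LinearMap.ker (((bqL p).comp (e b)).prod ((bqL r).comp (e b)))) := by
      have := hker b p r; omega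
    obtain ⟨⟨x, hx⟩, hne⟩ := (Module.finrank_pos_iff_exists_ne_zero (R := F)).mp hpos
    rw [LinearMap.mem_ker, LinearMap.prod_apply, Prod.mk_eq_zero] at hx
    exact ⟨x, fun h0 => hne (Subtype.ext h0), hkerW b x hx.1 hx.2⟩
  obtain ⟨a, ha0, ha⟩ := hex true
  obtain ⟨a', ha0', ha'⟩ := hex false
  have hWperp : ∀ w ∈ W, bq w p = 0 ∧ bq w r = 0 := by
    intro w hw
    obtain ⟨c, d, rfl⟩ := Submodule.mem_span_pair.mp hw
    simp only [bq_add_left, bq_smul_left, h.self_left, h.self_right, h.perp, h.symm.perp]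
    constructor <;> ring
  have hli : LinearIndependent F ![e true a, e false a'] := by
    rw [LinearIndependent.pair_iff]
    intro x y hxy
    have h1 : e true (x • a) = e false (-y • a') := by
      rw [map_smul, map_smul, neg_smul, eq_neg_iff_add_eq_zero]; exact hxy
    have h2 := hdisj _ _ h1
    have hx : x = 0 := (smul_eq_zero.mp h2).resolve_right ha0
    rw [hx, zero_smul, zero_add, ← map_smul, ← map_zero (e false)] at hxy
    exact ⟨hx, (smul_eq_zero.mp (hinj false hxy)).resolve_right ha0'⟩
  have hspan : Submodule.span F {e true a, e false a'} = W := by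
    refine Submodule.eq_of_le_of_finrank_le (Submodule.span_le.mpr ?_) ?_
    · rintro x (rfl | rfl)
      · exact ha
      · exact ha'
    · refine le_trans hW (le_of_eq ?_)
      have h2 := finrank_span_eq_card hli
      rw [Matrix.range_cons, Matrix.range_cons, Matrix.range_empty, Set.union_empty, Set.singleton_union] at h2
      rw [h2, Fintype.card_fin]
  -- the perpendicular of the line inside the first subspace
  have h2' : 2 ≤ Module.finrank F (LinearMap.ker ((bqL (e false a')).comp (e true))) := by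
    have h1 := LinearMap.finrank_range_add_finrank_ker ((bqL (e false a')).comp (e true))
    have h2 := Submodule.finrank_le (LinearMap.range ((bqL (e false a')).comp (e true)))
    rw [Module.finrank_fintype_fun_eq_card, Fintype.card_fin] at h1
    rw [Module.finrank_self] at h2
    omega
  have hle : LinearMap.ker ((bqL (e false a')).comp (e true)) ≤ Submodule.span F {a} := by
    intro x hx
    rw [LinearMap.mem_ker, LinearMap.comp_apply, bqL_apply] at hx
    have haa : bq (e true x) (e true a) = 0 := by simp [e, bq]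
    have hall : ∀ w ∈ W, bq (e true x) w = 0 := by
      intro w hw
      rw [← hspan] at hw
      obtain ⟨c, d, rfl⟩ := Submodule.mem_span_pair.mp hw
      rw [bq_add_right, bq_smul_right, bq_smul_right, haa, hx]; ring
    have hxW := hkerW true x (hall p (Submodule.subset_span (by simp))) (hall r (Submodule.subset_span (by simp)))
    rw [← hspan] at hxW
    obtain ⟨c, d, hcd⟩ := Submodule.mem_span_pair.mp hxW
    have h1 : e true (x - c • a) = e false (d • a') := by
      rw [map_sub, map_smul, map_smul, ← hcd]; abel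
    exact Submodule.mem_span_singleton.mpr ⟨c, (sub_eq_zero.mp (hdisj _ _ h1)).symm⟩
  have := (Submodule.finrank_mono hle).trans_eq (finrank_span_singleton ha0)
  omega

theorem mem_rootSet {p r : V} (h : Sing p r) (hli : LinearIndependent F ![p, r]) : T p r h ∈ rootSet F k :=
  ⟨p, r, h, hli, rfl⟩

theorem fadj {p r s t : V} (h : Sing p r) (h' : Sing s t) (hD : bq p s * bq r t - bq p t * bq r s ≠ 0) :
    Cfsg.FAdj (rootSet F k) (T p r h) (T s t h') := by
  have li : ∀ {p r s t : V}, bq p s * bq r t - bq p t * bq r s ≠ 0 → LinearIndependent F ![p, r] := by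
    intro p r s t hD
    rw [LinearIndependent.pair_iff]
    intro x y hxy
    have e1 := congrArg (fun v => bq v s) hxy
    have e2 := congrArg (fun v => bq v t) hxy
    simp only [bq_add_left, bq_smul_left, bq_zero_left] at e1 e2
    exact ⟨(mul_eq_zero.mp (show x * (bq p s * bq r t - bq p t * bq r s) = 0 by
        linear_combination bq r t * e1 - bq r s * e2)).resolve_right hD,
      (mul_eq_zero.mp (show y * (bq p s * bq r t - bq p t * bq r s) = 0 by
        linear_combination bq p s * e2 - bq p t * e1)).resolve_right hD⟩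
  refine ⟨mem_rootSet h (li hD), mem_rootSet h' (li (s := p) (t := r) ?_), (pair_of_det hD).1⟩
  rw [bq_comm s p, bq_comm t r, bq_comm s r, bq_comm t p]
  intro e
  exact hD (by linear_combination e)

/-- Lines through a point lying in a totally singular plane. -/
theorem near {p r x : V} (h : Sing p r) (h' : Sing p x) (hli : LinearIndependent F ![p, r])
    (hli' : LinearIndependent F ![p, x]) (hrx : bq r x = 0) :
    Relation.ReflTransGen (Cfsg.FAdj (rootSet F k)) (T p r h) (T p x h') := by
  by_cases h3 : LinearIndependent F ![p, r, x]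
  swap
  · -- equal lines
    have hx : x ∈ Submodule.span F ({p, r} : Set V) := by
      by_contra hx
      apply h3
      have : ![p, r, x] = Fin.snoc ![p, r] x := by funext i; fin_cases i <;> rfl
      rw [this, linearIndependent_fin_snoc]
      refine ⟨hli, ?_⟩
      rwa [Matrix.range_cons, Matrix.range_cons, Matrix.range_empty, Set.union_empty, Set.singleton_union]
    obtain ⟨c, d, hcd⟩ := Submodule.mem_span_pair.mp hx
    have hd : d ≠ 0 := by
      intro hd
      have := (LinearIndependent.pair_iff.mp hli' c (-1) (by rw [← hcd, hd]; module)).2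
      simp at this
    have e : T p x h' = T p r h :=
      T_change h h' (α := 1) (β := 0) (γ := c) (δ := d) (by simp) hcd.symm (by simpa using hd)
    rw [e]
  obtain ⟨s0, hs0⟩ := exists_dual h3 ![1, 0, 0]
  have ps0 : bq p s0 = 1 := by simpa using hs0 0
  have rs0 : bq r s0 = 0 := by simpa using hs0 1
  have xs0 : bq x s0 = 0 := by simpa using hs0 2
  obtain ⟨s, hs⟩ : ∃ s : V, s = s0 + (-Q F k s0) • p := ⟨_, rfl⟩
  have qs : Q F k s = 0 := by rw [hs, Q_add, Q_smul, h.left, bq_smul_right, bq_comm s0 p, ps0]; ring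
  have ps : bq p s = 1 := by rw [hs, bq_add_right, bq_smul_right, h.self_left, ps0]; ring
  have rs : bq r s = 0 := by rw [hs, bq_add_right, bq_smul_right, h.symm.perp, rs0]; ring
  have xs : bq x s = 0 := by rw [hs, bq_add_right, bq_smul_right, h'.symm.perp, xs0]; ring
  have four : LinearIndependent F ![p, s, r, x] := by
    rw [Fintype.linearIndependent_iff]
    intro g hg
    simp only [Fin.sum_univ_four, Matrix.cons_val_zero, Matrix.cons_val_one, Matrix.cons_val] at hg
    have e := congrArg (fun v => bq v p) hg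
    simp only [bq_add_left, bq_smul_left, bq_zero_left, h.self_left, h.symm.perp, h'.symm.perp, bq_comm s p, ps] at e
    have g1 : g 1 = 0 := by linear_combination e
    rw [g1, zero_smul, add_zero] at hg
    have := Fintype.linearIndependent_iff.mp h3 ![g 0, g 2, g 3] (by simpa [Fin.sum_univ_three] using hg)
    intro i
    fin_cases i
    · exact this 0
    · exact g1
    · exact this 1
    · exact this 2
  obtain ⟨t0, ht0⟩ := exists_dual four ![0, 0, 1, 1]
  have pt0 : bq p t0 = 0 := by simpa using ht0 0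
  have st0 : bq s t0 = 0 := by simpa using ht0 1
  have rt0 : bq r t0 = 1 := by simpa using ht0 2
  have xt0 : bq x t0 = 1 := by simpa using ht0 3
  obtain ⟨t, ht⟩ : ∃ t : V, t = t0 + (-Q F k t0) • r := ⟨_, rfl⟩
  have qt : Q F k t = 0 := by rw [ht, Q_add, Q_smul, h.right, bq_smul_right, bq_comm t0 r, rt0]; ring
  have pt : bq p t = 0 := by rw [ht, bq_add_right, bq_smul_right, h.perp, pt0]; ring
  have st : bq s t = 0 := by rw [ht, bq_add_right, bq_smul_right, bq_comm s r, rs, st0]; ring
  have rt : bq r t = 1 := by rw [ht, bq_add_right, bq_smul_right, h.self_right, rt0]; ring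
  have xt : bq x t = 1 := by rw [ht, bq_add_right, bq_smul_right, (bq_comm x r).trans hrx, xt0]; ring
  have hn : Sing s t := ⟨qs, qt, st⟩
  refine (Relation.ReflTransGen.single (fadj h hn ?_)).tail (fadj hn h' ?_)
  · rw [ps, rt, pt, rs]; simp
  · rw [bq_comm s p, bq_comm t x, bq_comm s x, bq_comm t p, ps, xt, pt, xs]; simp

/-- Lines through a point are connected. -/
theorem through (hk : 3 ≤ k) {p r x : V} (h : Sing p r) (h' : Sing p x) (hli : LinearIndependent F ![p, r])
    (hli' : LinearIndependent F ![p, x]) :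
    Relation.ReflTransGen (Cfsg.FAdj (rootSet F k)) (T p r h) (T p x h') := by
  by_cases hrx : bq r x = 0
  · exact near h h' hli hli' hrx
  obtain ⟨z, qz, zp, zr, hz⟩ := ext_line hk h
  obtain ⟨y, hy⟩ : ∃ y : V, y = z + (-bq z x / bq r x) • r := ⟨_, rfl⟩
  have yx : bq y x = 0 := by rw [hy, bq_add_left, bq_smul_left]; field_simp; ring
  have hy1 : Sing p y := by
    refine ⟨h.left, ?_, ?_⟩
    · rw [hy, Q_add, Q_smul, qz, h.right, bq_smul_right, zr]; ring
    · rw [hy, bq_add_right, bq_smul_right, bq_comm p z, zp, h.perp]; ring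
  have hli1 : LinearIndependent F ![p, y] := by
    rw [LinearIndependent.pair_iff]
    intro a b hab
    by_cases hb : b = 0
    · rw [hb, zero_smul, add_zero] at hab
      exact ⟨(smul_eq_zero.mp hab).resolve_right (hli.ne_zero 0), hb⟩
    · exfalso
      apply hz
      refine Submodule.mem_span_pair.mpr ⟨-(a / b), bq z x / bq r x, ?_⟩
      rw [hy] at hab
      have e : b • z = -(a • p) + (-(b * (-bq z x / bq r x))) • r := by
        rw [eq_comm, ← sub_eq_zero, ← neg_eq_zero, ← hab]; module
      refine smul_right_injective V hb ?_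
      show b • (-(a / b) • p + (bq z x / bq r x) • r) = b • z
      rw [e, smul_add, smul_smul, smul_smul, mul_neg, mul_div_cancel₀ _ hb, neg_smul, neg_div]
      ring_nf
  have ry : bq r y = 0 := by rw [hy, bq_add_right, bq_smul_right, bq_comm r z, zr, h.self_right]; ring
  exact (near h hy1 hli hli1 ry).trans (near hy1 h' hli1 hli' yx)

/-- The family is connected. -/
theorem connected (hk : 3 ≤ k) : Cfsg.IsConnectedFamily (Cfsg.FAdj (rootSet F k)) (rootSet F k) := by
  rintro _ ⟨p, r, h, hp, rfl⟩ _ ⟨s, t, h', hs, rfl⟩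
  -- a point of the second line perpendicular to `p`
  obtain ⟨a, b, hab, hperp⟩ : ∃ a b : F, (a ≠ 0 ∨ b ≠ 0) ∧ a * bq p s + b * bq p t = 0 := by
    by_cases h0 : bq p s = 0
    · exact ⟨1, 0, Or.inl one_ne_zero, by rw [h0]; ring⟩
    · exact ⟨-bq p t, bq p s, Or.inr h0, by ring⟩
  obtain ⟨c, d, hD⟩ : ∃ c d : F, a * d - b * c ≠ 0 := by
    rcases hab with ha | hb
    · exact ⟨0, 1, by simpa using ha⟩
    · exact ⟨1, 0, by simpa using hb⟩
  have hn := sing_change h' a b c d
  have ln := li_change hs hD
  have e : T _ _ hn = T s t h' := T_change h' hn rfl rfl hD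
  rw [← e]
  have hperp : bq p (a • s + b • t) = 0 := by rw [bq_add_right, bq_smul_right, bq_smul_right]; exact hperp
  generalize a • s + b • t = x at hn ln hperp ⊢
  generalize c • s + d • t = y at hn ln ⊢
  by_cases hpx : LinearIndependent F ![p, x]
  · have hk1 : Sing p x := ⟨h.left, hn.left, hperp⟩
    refine (through hk h hk1 hp hpx).trans ?_
    rw [← T_swap hk1]
    exact through hk hk1.symm hn (LinearIndependent.pair_symm_iff.mp hpx) ln
  · rw [LinearIndependent.pair_iff' (show p ≠ 0 by simpa using hp.ne_zero 0)] at hpx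
    push Not at hpx
    obtain ⟨μ, hμ⟩ := hpx
    have hμ0 : μ ≠ 0 := fun h0 => ln.ne_zero 0 (by simpa [h0] using hμ.symm)
    have hk1 : Sing p y := ⟨h.left, hn.right, by
      have := hn.perp
      rw [← hμ] at this
      simp only [Matrix.cons_val_zero, bq_smul_left] at this
      exact (mul_eq_zero.mp this).resolve_left hμ0⟩
    have lk : LinearIndependent F ![p, y] := by
      have := li_change ln (α := μ⁻¹) (β := (0 : F)) (γ := (0 : F)) (δ := 1) (by simpa using hμ0)
      simpa [← hμ, smul_smul, hμ0] using this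
    have e2 : T x y hn = T p y hk1 :=
      T_change hk1 hn (α := μ) (β := 0) (γ := 0) (δ := 1) (by simpa using hμ.symm) (by simp) (by simpa using hμ0)
    rw [e2]
    exact through hk h hk1 hp lk

variable (F k) in
/-- The group generated. -/
noncomputable def gen : Subgroup Gi := ⨆ B ∈ rootSet F k, B

variable (F k) in
/-- The root groups inside the group generated. -/
noncomputable def rootSet' : Set (Subgroup (gen F k)) :=
  (fun A : Subgroup Gi => A.subgroupOf (gen F k)) '' rootSet F k

theorem le_gen {A : Subgroup Gi} (hA : A ∈ rootSet F k) : A ≤ gen F k := le_iSup₂_of_le A hA le_rfl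

theorem case_subgroupOf {G : Type*} [Group G] {H : Subgroup G} {S : Set (Subgroup G)}
    (hle : ∀ A ∈ S, A ≤ H) {A B : Subgroup G} (hA : A ∈ S) (hB : B ∈ S) (h : Cfsg.RootCommutatorCase S A B) :
    Cfsg.RootCommutatorCase ((fun A : Subgroup G => A.subgroupOf H) '' S) (A.subgroupOf H) (B.subgroupOf H) := by
  obtain ⟨h1, h2, h3, h4⟩ := h
  have hA' := hle A hA
  have hB' := hle B hB
  have hinj := Subgroup.map_injective H.subtype_injective
  have e : ⁅A.subgroupOf H, B.subgroupOf H⁆ = (⁅A, B⁆).subgroupOf H := hinj (by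
    rw [Subgroup.map_commutator, Subgroup.map_subgroupOf_eq_of_le hA', Subgroup.map_subgroupOf_eq_of_le hB',
      Subgroup.map_subgroupOf_eq_of_le (hle _ h1)])
  refine ⟨e ▸ ⟨_, h1, rfl⟩, ?_, ?_, ?_⟩
  · intro c hc x hx
    refine Subtype.ext (h2 c ?_ x ?_)
    · rw [e, Subgroup.mem_subgroupOf] at hc; exact hc
    · have hm : (x : G) ∈ (A.subgroupOf H ⊔ B.subgroupOf H).map H.subtype := ⟨x, hx, rfl⟩
      rwa [Subgroup.map_sup, Subgroup.map_subgroupOf_eq_of_le hA', Subgroup.map_subgroupOf_eq_of_le hB'] at hm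
  · intro a ha ha1
    refine hinj ?_
    rw [MonoidHom.map_closure, e, Subgroup.map_subgroupOf_eq_of_le (hle _ h1),
      ← h3 a ha fun e0 => ha1 (Subtype.ext e0)]
    congr 1
    ext z
    constructor
    · rintro ⟨_, ⟨b, hb, rfl⟩, rfl⟩
      exact ⟨b, hb, rfl⟩
    · rintro ⟨b, hb, rfl⟩
      exact ⟨_, ⟨⟨b, hB' hb⟩, hb, rfl⟩, rfl⟩
  · intro b hb hb1
    refine hinj ?_
    rw [MonoidHom.map_closure, e, Subgroup.map_subgroupOf_eq_of_le (hle _ h1),
      ← h4 b hb fun e0 => hb1 (Subtype.ext e0)]
    congr 1
    ext z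
    constructor
    · rintro ⟨_, ⟨a, ha, rfl⟩, rfl⟩
      exact ⟨a, ha, rfl⟩
    · rintro ⟨a, ha, rfl⟩
      exact ⟨_, ⟨⟨a, hA' ha⟩, ha, rfl⟩, rfl⟩

theorem psl2_subgroupOf {G : Type*} [Group G] {H A B : Subgroup G} {L : Type*} [Field L]
    (h : Cfsg.IsPSL2PairOver L A B) (hA : A ≤ H) (hB : B ≤ H) :
    Cfsg.IsPSL2PairOver L (A.subgroupOf H) (B.subgroupOf H) := by
  obtain ⟨φ, hrange, hker, hu, hl⟩ := h
  have hle : φ.range ≤ H := by rw [hrange]; exact sup_le hA hB
  let ψ : Matrix.SpecialLinearGroup (Fin 2) L →* H := φ.codRestrict _ fun x => hle ⟨x, rfl⟩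
  have hcomp : H.subtype.comp ψ = φ := MonoidHom.ext fun _ => rfl
  have hinj := Subgroup.map_injective H.subtype_injective
  refine ⟨ψ, hinj ?_, fun x hx => hker ?_, hinj ?_, hinj ?_⟩
  · rw [MonoidHom.map_range, hcomp, hrange, Subgroup.map_sup, Subgroup.map_subgroupOf_eq_of_le hA,
      Subgroup.map_subgroupOf_eq_of_le hB]
  · rw [MonoidHom.mem_ker] at hx ⊢
    exact congrArg Subtype.val hx
  · rw [Subgroup.map_map, hcomp, hu, Subgroup.map_subgroupOf_eq_of_le hA]
  · rw [Subgroup.map_map, hcomp, hl, Subgroup.map_subgroupOf_eq_of_le hB]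

theorem cases' {A B : Subgroup (gen F k)} (hA : A ∈ rootSet' F k) (hB : B ∈ rootSet' F k) :
    ⁅A, B⁆ = ⊥ ∨ (Cfsg.IsRankOnePair A B ∧ Cfsg.IsPSL2PairOver F A B) ∨
      Cfsg.RootCommutatorCase (rootSet' F k) A B := by
  obtain ⟨A0, hA0, rfl⟩ := hA
  obtain ⟨B0, hB0, rfl⟩ := hB
  rcases trichotomy hA0 hB0 with h | ⟨h, h'⟩ | h
  · refine Or.inl ?_
    refine Subgroup.map_injective (gen F k).subtype_injective ?_
    rw [Subgroup.map_commutator, Subgroup.map_subgroupOf_eq_of_le (le_gen hA0),
      Subgroup.map_subgroupOf_eq_of_le (le_gen hB0), h, Subgroup.map_bot]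
  · exact Or.inr (Or.inl ⟨pair_subgroupOf h (le_gen hA0) (le_gen hB0), psl2_subgroupOf h' (le_gen hA0) (le_gen hB0)⟩)
  · exact Or.inr (Or.inr (case_subgroupOf (fun _ => le_gen) hA0 hB0 h))

theorem isRootSubgroupSet : Cfsg.IsRootSubgroupSet (rootSet' F k) := by
  refine ⟨?_, ?_, ?_, ?_, ?_⟩
  · rintro _ ⟨A, ⟨p, r, h, -, rfl⟩, rfl⟩
    refine ⟨⟨fun x y => Subtype.ext (Subtype.ext ?_)⟩⟩
    have := (T_comm p r h).1.1 ⟨_, x.2⟩ ⟨_, y.2⟩
    simpa using congrArg Subtype.val this
  · rintro _ ⟨A, hA, rfl⟩ he
    obtain ⟨p, r, h, hli, rfl⟩ := hA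
    change (T p r h).subgroupOf _ = ⊥ at he
    refine T_ne_bot hli (h := h) ?_
    rw [← Subgroup.map_subgroupOf_eq_of_le (le_gen (mem_rootSet h hli)), he, Subgroup.map_bot]
  · refine Subgroup.map_injective (gen F k).subtype_injective ?_
    rw [← MonoidHom.range_eq_map, Subgroup.range_subtype]
    simp only [Subgroup.map_iSup, rootSet', iSup_image]
    exact le_antisymm (iSup₂_le fun A hA => (Subgroup.map_subgroupOf_eq_of_le (le_gen hA)).le.trans (le_gen hA))
      (iSup₂_le fun A hA => le_iSup₂_of_le A hA (Subgroup.map_subgroupOf_eq_of_le (le_gen hA)).ge)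
  · rintro _ ⟨A, ⟨p, r, h, hli, rfl⟩, rfl⟩ g
    have hli' : LinearIndependent F ![act (g : Gi) p, act (g : Gi) r] := by
      rw [LinearIndependent.pair_iff] at hli ⊢
      intro a b hab
      refine hli a b ?_
      rw [← act_cancel_inv (g : Gi) (a • p + b • r), act_add, act_smul, act_smul, hab]
      simp [act]
    refine ⟨_, mem_rootSet (h.map_act (g : Gi)) hli', ?_⟩
    ext x
    rw [mem_conjBy, Subgroup.mem_subgroupOf, Subgroup.mem_subgroupOf, ← conj_T (g : Gi) h (h.map_act _),
      Subgroup.mem_map_equiv]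
    simp
  · intro A hA B hB
    exact (cases' hA hB).imp_right (Or.imp_left And.left)

theorem pair_bracket (h' : Cfsg.IsRootSubgroupSet (rootSet' F k)) : Cfsg.IsKRootSubgroupSet F (rootSet' F k) :=
  ⟨h', fun A hA B hB h => by
    rcases cases' hA hB with h1 | ⟨-, h1⟩ | h1
    · exact absurd h1 (not_commuting h)
    · exact h1
    · exact absurd h1.1 (pair_bracket_not_mem h' h hA hB)⟩

end Cfsg.Agent.Classical.Siegel
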