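import Cfsg.Agent.Lib.Classical.SiegelRoot.Basic
import Cfsg.Agent.Lib.Classical.TransvectionRoot

/-!
# Two Siegel transvection groups
-/

set_option autoImplicit false
set_option linter.unusedSectionVars false

namespace Cfsg.Agent.Classical.Siegel

open Matrix Cfsg.Agent.Classical.RankOne
open scoped commutatorElement

variable {F : Type*} [Field F] {k : ℕ}

local notation "V" => Fin k ⊕ Fin k → F
set_option quotPrecheck false in
local notation "Gi" => ↥(Cfsg.isometryGroup F (Cfsg.quadFormPlus k F))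

/-- Two singular pairs in duality. -/
structure Dual (p r s t : V) : Prop where
  pr : Sing p r
  st : Sing s t
  ps : bq p s = 1
  pt : bq p t = 0
  rs : bq r s = 0
  rt : bq r t = 1

/-- The action of a matrix on the hyperbolic four-space. -/
def pLin (p r s t : V) (a b c d : F) : V →ₗ[F] V :=
  LinearMap.id + ((a - 1) • bqL s + b • bqL r).smulRight p + (c • bqL s + (d - 1) • bqL r).smulRight t +
    ((a - 1) • bqL t + (-b) • bqL p).smulRight r + ((-c) • bqL t + (d - 1) • bqL p).smulRight s

theorem pLin_apply (p r s t : V) (a b c d : F) (v : V) :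
    pLin p r s t a b c d v = v + ((a - 1) * bq v s + b * bq v r) • p + (c * bq v s + (d - 1) * bq v r) • t +
      ((a - 1) * bq v t + (-b) * bq v p) • r + ((-c) * bq v t + (d - 1) * bq v p) • s := rfl

variable {p r s t : Fin k ⊕ Fin k → F}

section InDuality

variable (D : Dual p r s t)

include D

theorem pLin_comp (a b c d a' b' c' d' : F) :
    pLin p r s t a b c d ∘ₗ pLin p r s t a' b' c' d' =
      pLin p r s t (a * a' + b * c') (a * b' + b * d') (c * a' + d * c') (c * b' + d * d') := by
  refine LinearMap.ext fun v => ?_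
  simp only [LinearMap.comp_apply, pLin_apply, bq_add_left, bq_smul_left, D.pr.self_left, D.pr.self_right,
    D.st.self_left, D.st.self_right, D.pr.perp, D.pr.symm.perp, D.st.perp, D.st.symm.perp, D.ps, D.pt, D.rs, D.rt,
    bq_comm s p, bq_comm t p, bq_comm s r, bq_comm t r]
  module

theorem pLin_one : pLin p r s t 1 0 0 1 = LinearMap.id :=
  LinearMap.ext fun v => by simp [pLin_apply]

theorem Q_pLin {a b c d : F} (h : a * d - b * c = 1) (v : V) :
    Q F k (pLin p r s t a b c d v) = Q F k v := by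
  simp only [pLin_apply, Q_add, Q_smul, bq_add_left, bq_smul_left, bq_smul_right, D.pr.left, D.pr.right, D.st.left,
    D.st.right, D.pr.perp, D.st.symm.perp, D.ps, D.pt, D.rs, D.rt, bq_comm t r]
  linear_combination (bq v s * bq v p + bq v t * bq v r) * h

/-- The embedded `SL₂`. -/
noncomputable def pHom : Matrix.SpecialLinearGroup (Fin 2) F →* Gi :=
  MonoidHom.mk' (fun M => ofLin (pLin p r s t (M 0 0) (M 0 1) (M 1 0) (M 1 1))
    (pLin p r s t (M 1 1) (-M 0 1) (-M 1 0) (M 0 0))
    (by
      have h := M.2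
      rw [Matrix.det_fin_two] at h
      rw [pLin_comp D, ← pLin_one D]
      congr 1 <;> first | linear_combination h | linear_combination -h | ring)
    (by
      have h := M.2
      rw [Matrix.det_fin_two] at h
      rw [pLin_comp D, ← pLin_one D]
      congr 1 <;> first | linear_combination h | linear_combination -h | ring)
    (Q_pLin D (by have h := M.2; rwa [Matrix.det_fin_two] at h)))
    fun M N => eq_of_act fun v => by
      rw [act_mul, act_ofLin, act_ofLin, act_ofLin, ← LinearMap.comp_apply, pLin_comp D]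
      simp [Matrix.SpecialLinearGroup.coe_mul, Matrix.mul_apply, Fin.sum_univ_two]

theorem act_pHom (M : Matrix.SpecialLinearGroup (Fin 2) F) (v : V) :
    act (pHom D M) v = pLin p r s t (M 0 0) (M 0 1) (M 1 0) (M 1 1) v := by
  simp only [pHom, MonoidHom.mk'_apply, act_ofLin]

theorem pHom_injective : Function.Injective (pHom D) := by
  intro M N he
  have key := fun x => (act_pHom D M x).symm.trans (by rw [he, act_pHom])
  have hP := key p
  have hT := key t
  have e1 := congrArg (fun v => bq v s) hP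
  have e2 := congrArg (fun v => bq v r) hP
  have e3 := congrArg (fun v => bq v s) hT
  have e4 := congrArg (fun v => bq v r) hT
  simp only [pLin_apply, bq_add_left, bq_smul_left, D.pr.self_left, D.pr.self_right, D.st.self_left, D.st.self_right,
    D.pr.perp, D.pr.symm.perp, D.st.perp, D.st.symm.perp, D.ps, D.pt, D.rs, D.rt, bq_comm s p, bq_comm t p, bq_comm s r,
    bq_comm t r] at e1 e2 e3 e4
  ext i j
  fin_cases i <;> fin_cases j
  · show M 0 0 = N 0 0; linear_combination e1
  · show M 0 1 = N 0 1; linear_combination e3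
  · show M 1 0 = N 1 0; linear_combination e2
  · show M 1 1 = N 1 1; linear_combination e4

theorem pHom_images :
    (Cfsg.upperUnipotentSL2 F).map (pHom D) = T p r D.pr ∧
    (Cfsg.lowerUnipotentSL2 F).map (pHom D) = T s t D.st := by
  constructor <;> ext g <;> rw [Subgroup.mem_map, mem_T] <;> constructor
  · rintro ⟨u, hu, rfl⟩
    obtain ⟨c, rfl⟩ := TransRoot.mem_upperUnipotentSL2.mp hu
    exact ⟨c, fun v => by
      rw [act_pHom, pLin_apply, Matrix.SpecialLinearGroup.transvection_coe]
      simp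
      module⟩
  · rintro ⟨c, hc⟩
    refine ⟨_, TransRoot.mem_upperUnipotentSL2.mpr ⟨c, rfl⟩, eq_of_act fun v => ?_⟩
    rw [hc, act_pHom, pLin_apply, Matrix.SpecialLinearGroup.transvection_coe]
    simp
    module
  · rintro ⟨u, hu, rfl⟩
    obtain ⟨c, rfl⟩ := TransRoot.mem_lowerUnipotentSL2.mp hu
    exact ⟨-c, fun v => by
      rw [act_pHom, pLin_apply, Matrix.SpecialLinearGroup.transvection_coe]
      simp
      module⟩
  · rintro ⟨c, hc⟩
    refine ⟨_, TransRoot.mem_lowerUnipotentSL2.mpr ⟨-c, rfl⟩, eq_of_act fun v => ?_⟩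
    rw [hc, act_pHom, pLin_apply, Matrix.SpecialLinearGroup.transvection_coe]
    simp
    module

theorem psl2_pair : Cfsg.IsRankOnePair (T p r D.pr) (T s t D.st) ∧
    Cfsg.IsPSL2PairOver F (T p r D.pr) (T s t D.st) := by
  obtain ⟨hu, hl⟩ := pHom_images D
  have hinj := pHom_injective D
  constructor
  · rw [← hu, ← hl]
    exact map_pair _ TransRoot.sl2_pair fun he => TransRoot.sl2_pair.ne (Subgroup.map_injective hinj he)
  · refine ⟨_, ?_, ?_, hu, hl⟩
    · rw [MonoidHom.range_eq_map, ← TransRoot.unipotents_sup, Subgroup.map_sup, hu, hl]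
    · rw [(MonoidHom.ker_eq_bot_iff _).mpr hinj]
      exact bot_le

end InDuality

theorem commuting {h : Sing p r} {h' : Sing s t} (ps : bq p s = 0) (pt : bq p t = 0) (rs : bq r s = 0)
    (rt : bq r t = 0) : ⁅T p r h, T s t h'⁆ = ⊥ := by
  rw [Subgroup.commutator_eq_bot_iff_le_centralizer]
  intro u hu v hv
  obtain ⟨c, hc⟩ := mem_T.mp hu
  obtain ⟨d, hd⟩ := mem_T.mp hv
  refine eq_of_act fun x => ?_
  simp only [act_mul, hc, hd, bq_add_left, bq_sub_left, bq_smul_left, ps, pt, rs, rt, bq_comm s p, bq_comm t p,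
    bq_comm s r, bq_comm t r]
  module

theorem bracket {h : Sing p r} {h' : Sing s t} {h'' : Sing p s} (pt : bq p t = 0) (rs : bq r s = 0) (c d : F) :
    ⁅sHom p r h (Multiplicative.ofAdd c), sHom s t h' (Multiplicative.ofAdd d)⁆ =
      sHom p s h'' (Multiplicative.ofAdd (-(c * d * bq r t))) := by
  rw [commutatorElement_def, mul_inv_eq_iff_eq_mul, mul_inv_eq_iff_eq_mul]
  refine eq_of_act fun v => ?_
  simp only [act_mul, act_sHom, toAdd_ofAdd, bq_add_left, bq_sub_left, bq_smul_left, h.self_left, h.self_right,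
    h.perp, h.symm.perp, h'.self_left, h'.self_right, h'.perp, h'.symm.perp, h''.perp, h''.symm.perp, pt, rs,
    bq_comm t p, bq_comm s r, bq_comm t r]
  module

variable (F k) in
/-- The Siegel transvection groups of the singular lines. -/
def rootSet : Set (Subgroup Gi) :=
  {A | ∃ (p r : V) (h : Sing p r), LinearIndependent F ![p, r] ∧ A = T p r h}

theorem li_change {p r : V} (hli : LinearIndependent F ![p, r]) {α β γ δ : F} (hD : α * δ - β * γ ≠ 0) :
    LinearIndependent F ![α • p + β • r, γ • p + δ • r] := by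
  rw [LinearIndependent.pair_iff]
  intro x y hxy
  obtain ⟨e1, e2⟩ := LinearIndependent.pair_iff.mp hli (x * α + y * γ) (x * β + y * δ) (by
    rw [← hxy]; module)
  have ex : x * (α * δ - β * γ) = 0 := by linear_combination δ * e1 - γ * e2
  have ey : y * (α * δ - β * γ) = 0 := by linear_combination α * e2 - β * e1
  exact ⟨(mul_eq_zero.mp ex).resolve_right hD, (mul_eq_zero.mp ey).resolve_right hD⟩

theorem sing_change {p r : V} (h : Sing p r) (α β γ δ : F) : Sing (α • p + β • r) (γ • p + δ • r) := by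
  refine ⟨?_, ?_, ?_⟩ <;>
    simp only [Q_add, Q_smul, bq_add_left, bq_add_right, bq_smul_left, bq_smul_right, h.left, h.right, h.self_left,
      h.self_right, h.perp, h.symm.perp] <;> ring

theorem commutator_case {h : Sing p r} {h' : Sing s t} (hli : LinearIndependent F ![p, s]) (ps : bq p s = 0)
    (pt : bq p t = 0) (rs : bq r s = 0) (rt : bq r t ≠ 0) :
    Cfsg.RootCommutatorCase (rootSet F k) (T p r h) (T s t h') := by
  have h'' : Sing p s := ⟨h.left, h'.left, ps⟩
  have hgen : ∀ c d : Multiplicative F, ⁅sHom p r h c, sHom s t h' d⁆ =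
      sHom p s h'' (Multiplicative.ofAdd (-(c.toAdd * d.toAdd * bq r t))) := fun c d => by
    rw [← bracket pt rs (h := h) (h' := h'), ofAdd_toAdd, ofAdd_toAdd]
  have hhit : ∀ e : Multiplicative F, ∀ c : F, c ≠ 0 → -(c * (-e.toAdd / (c * bq r t)) * bq r t) = e.toAdd :=
    fun e c hc => by field_simp
  have heq : ⁅T p r h, T s t h'⁆ = T p s h'' := by
    refine le_antisymm (Subgroup.commutator_le.2 ?_) ?_
    · rintro _ ⟨c, rfl⟩ _ ⟨d, rfl⟩
      exact ⟨_, (hgen c d).symm⟩
    · rintro _ ⟨e, rfl⟩
      have hm := Subgroup.commutator_mem_commutator (H₁ := T p r h) (H₂ := T s t h')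
        ⟨Multiplicative.ofAdd (1 : F), rfl⟩ ⟨Multiplicative.ofAdd (-e.toAdd / (1 * bq r t)), rfl⟩
      rwa [hgen, toAdd_ofAdd, toAdd_ofAdd, hhit e 1 one_ne_zero, ofAdd_toAdd] at hm
  refine ⟨heq ▸ ⟨p, s, h'', hli, rfl⟩, ?_, ?_, ?_⟩
  · rw [heq]
    have c1 : ⁅T p r h, T p s h''⁆ = ⊥ := commuting h.self_left ps h.symm.perp rs
    have c2 : ⁅T s t h', T p s h''⁆ = ⊥ :=
      commuting ((bq_comm s p).trans ps) h'.self_left ((bq_comm t p).trans pt) h'.symm.perp
    have hle : T p r h ⊔ T s t h' ≤ Subgroup.centralizer (T p s h'' : Set Gi) :=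
      sup_le (Subgroup.commutator_eq_bot_iff_le_centralizer.mp c1)
        (Subgroup.commutator_eq_bot_iff_le_centralizer.mp c2)
    intro c hc z hz
    exact Subgroup.mem_centralizer_iff.mp (hle hz) c hc
  · intro a ha ha1
    refine le_antisymm ((Subgroup.closure_le _).mpr ?_) ?_
    · rintro _ ⟨b, hb, rfl⟩
      exact Subgroup.commutator_mem_commutator ha hb
    · rw [heq]
      rintro _ ⟨e, rfl⟩
      obtain ⟨c, rfl⟩ := ha
      have hc : c.toAdd ≠ 0 := fun h0 => ha1 (by rw [show c = 1 from toAdd_eq_zero.mp h0, map_one])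
      refine Subgroup.subset_closure ⟨sHom s t h' (Multiplicative.ofAdd (-e.toAdd / (c.toAdd * bq r t))), ⟨_, rfl⟩, ?_⟩
      refine Eq.trans (hgen c _) ?_
      rw [toAdd_ofAdd, hhit e _ hc, ofAdd_toAdd]
  · intro b hb hb1
    refine le_antisymm ((Subgroup.closure_le _).mpr ?_) ?_
    · rintro _ ⟨a, ha, rfl⟩
      exact Subgroup.commutator_mem_commutator ha hb
    · rw [heq]
      rintro _ ⟨e, rfl⟩
      obtain ⟨d, rfl⟩ := hb
      have hd : d.toAdd ≠ 0 := fun h0 => hb1 (by rw [show d = 1 from toAdd_eq_zero.mp h0, map_one])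
      refine Subgroup.subset_closure ⟨sHom p r h (Multiplicative.ofAdd (-e.toAdd / (d.toAdd * bq r t))), ⟨_, rfl⟩, ?_⟩
      refine Eq.trans (hgen _ d) ?_
      rw [toAdd_ofAdd, mul_comm (-e.toAdd / _) d.toAdd, hhit e _ hd, ofAdd_toAdd]

/-- Two lines in duality after a change of basis. -/
theorem pair_of_det {h : Sing p r} {h' : Sing s t} (hD : bq p s * bq r t - bq p t * bq r s ≠ 0) :
    Cfsg.IsRankOnePair (T p r h) (T s t h') ∧ Cfsg.IsPSL2PairOver F (T p r h) (T s t h') := by
  generalize hD0 : bq p s * bq r t - bq p t * bq r s = D0 at hD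
  have hn := sing_change h' (bq r t / D0) (-bq r s / D0) (-bq p t / D0) (bq p s / D0)
  have hdual : Dual p r ((bq r t / D0) • s + (-bq r s / D0) • t) ((-bq p t / D0) • s + (bq p s / D0) • t) := by
    refine ⟨h, hn, ?_, ?_, ?_, ?_⟩ <;> simp only [bq_add_right, bq_smul_right] <;> field_simp <;>
      first | linear_combination hD0 | linear_combination -hD0 | ring
  have e : T _ _ hn = T s t h' := T_change h' hn rfl rfl (by
    field_simp
    intro h0
    rcases div_eq_zero_iff.mp h0 with h0 | h0
    · exact hD (by linear_combination h0 - hD0)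
    · exact pow_ne_zero _ hD h0)
  have hp := psl2_pair hdual
  rw [← e]
  exact hp

/-- The case of a matrix of rank one, normalised. -/
theorem case_one {h : Sing p r} {h' : Sing s t} (hp : LinearIndependent F ![p, r]) (hs : LinearIndependent F ![s, t])
    (hD : bq p s * bq r t - bq p t * bq r s = 0) (rt : bq r t ≠ 0) :
    ⁅T p r h, T s t h'⁆ = ⊥ ∨ Cfsg.RootCommutatorCase (rootSet F k) (T p r h) (T s t h') := by
  have h1 := sing_change h (bq r t) (-bq p t) 0 1
  have h2 := sing_change h' (bq r t) (-bq r s) 0 1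
  have e1 : T _ _ h1 = T p r h := T_change h h1 rfl rfl (by simpa using rt)
  have e2 : T _ _ h2 = T s t h' := T_change h' h2 rfl rfl (by simpa using rt)
  have l1 := li_change hp (α := bq r t) (β := -bq p t) (γ := (0 : F)) (δ := 1) (by simpa using rt)
  have l2 := li_change hs (α := bq r t) (β := -bq r s) (γ := (0 : F)) (δ := 1) (by simpa using rt)
  rw [← e1, ← e2]
  generalize hP : bq r t • p + -bq p t • r = P at h1 l1 ⊢
  generalize hS : bq r t • s + -bq r s • t = S at h2 l2 ⊢
  have ePS : bq P S = 0 := by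
    simp only [← hP, ← hS, bq_add_left, bq_add_right, bq_smul_left, bq_smul_right]
    linear_combination bq r t * hD
  have ePt : bq P ((0 : F) • s + (1 : F) • t) = 0 := by
    simp only [← hP, bq_add_left, bq_add_right, bq_smul_left, bq_smul_right]; ring
  have erS : bq ((0 : F) • p + (1 : F) • r) S = 0 := by
    simp only [← hS, bq_add_left, bq_add_right, bq_smul_left, bq_smul_right]; ring
  have ert : bq ((0 : F) • p + (1 : F) • r) ((0 : F) • s + (1 : F) • t) ≠ 0 := by simpa using rt
  by_cases hli : LinearIndependent F ![P, S]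
  · exact Or.inr (commutator_case hli ePS ePt erS ert)
  refine Or.inl ?_
  rw [LinearIndependent.pair_iff' (by simpa using l1.ne_zero 0)] at hli
  push Not at hli
  obtain ⟨μ, hμ⟩ := hli
  rw [Subgroup.commutator_eq_bot_iff_le_centralizer]
  intro u hu v hv
  obtain ⟨c, rfl⟩ := hu
  obtain ⟨d, rfl⟩ := hv
  have hPS : Sing P S := ⟨h1.left, h2.left, ePS⟩
  have e := bracket (h := h1) (h' := h2) (h'' := hPS) ePt erS c.toAdd d.toAdd
  rw [ofAdd_toAdd, ofAdd_toAdd] at e
  have e1 : sHom P S hPS = 1 := MonoidHom.ext fun x => eq_of_act fun w => by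
    rw [act_sHom, MonoidHom.one_apply, act_one, ← hμ, bq_smul_right]
    module
  rw [e1, MonoidHom.one_apply] at e
  exact (commutatorElement_eq_one_iff_mul_comm.mp e).symm

/-- The trichotomy. -/
theorem trichotomy {A B : Subgroup Gi} (hA : A ∈ rootSet F k) (hB : B ∈ rootSet F k) :
    ⁅A, B⁆ = ⊥ ∨ (Cfsg.IsRankOnePair A B ∧ Cfsg.IsPSL2PairOver F A B) ∨
      Cfsg.RootCommutatorCase (rootSet F k) A B := by
  obtain ⟨p, r, h, hp, rfl⟩ := hA
  obtain ⟨s, t, h', hs, rfl⟩ := hB
  by_cases hD : bq p s * bq r t - bq p t * bq r s = 0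
  swap
  · exact Or.inr (Or.inl (pair_of_det hD))
  have sw : ∀ {p r : V}, LinearIndependent F ![p, r] → LinearIndependent F ![r, p] :=
    fun hl => LinearIndependent.pair_symm_iff.mp hl
  by_cases h4 : bq r t = 0
  swap
  · exact (case_one hp hs hD h4).imp_right Or.inr
  by_cases h3 : bq r s = 0
  swap
  · rw [← T_swap h']
    exact (case_one hp (sw hs) (by linear_combination -hD) h3).imp_right Or.inr
  by_cases h2 : bq p t = 0
  swap
  · rw [← T_swap h]
    exact (case_one (sw hp) hs (by linear_combination -hD) h2).imp_right Or.inr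
  by_cases h1 : bq p s = 0
  swap
  · rw [← T_swap h, ← T_swap h']
    exact (case_one (sw hp) (sw hs) (by linear_combination hD) h1).imp_right Or.inr
  exact Or.inl (commuting h1 h2 h3 h4)

end Cfsg.Agent.Classical.Siegel
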